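import Groth.Prelude.Def_Pic13
import Groth.Agent.S0018
import Groth.Agent.S0034
import Groth.Agent.S1026
import Groth.Agent.Fga.EulerIso
import Groth.Agent.Fga.EulerLEAdd
import Groth.Agent.Fdesc.FlatBC
import Groth.Agent.CohqB.PullTwist471
import Groth.Agent.Ega3B.FlatTensInv
import Groth.Agent.Ega3B.CohTensor
import Groth.Agent.FormalA.PullbackQC

/-!
# Euler characteristics in families over a field

`X` proper over a field `k`, `q : T ⟶ Spec k`.  The Euler characteristic of the restriction of a module on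
`X ×_k T` to the slice over a `k`-point `t` is the Euler characteristic of the fibre at the point `t`, hence
constant in flat families over a connected base.
-/

set_option autoImplicit false
universe u
open CategoryTheory CategoryTheory.Limits AlgebraicGeometry

namespace Groth.Agent.Pic13.H942.ChiFam

/-- Modules over a scheme over a field are flat. -/
theorem flat_over_field {K : Type u} [Field K] {Y : Scheme.{u}} (q : Y ⟶ Spec (CommRingCat.of K))
    (M : Y.Modules) : FlatMod.IsFlatOver q M := by
  intro x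
  unfold FlatMod.IsFlatOverAt
  let _ := FlatMod.moduleStalkOver q M x
  let _ : Algebra K ((Spec (CommRingCat.of K)).presheaf.stalk (q.base x)) :=
    StructureSheaf.stalkAlgebra (R := K) (q.base x)
  have : IsLocalization.AtPrime ((Spec (CommRingCat.of K)).presheaf.stalk (q.base x)) (q.base x).asIdeal :=
    StructureSheaf.IsLocalization.to_stalk K (q.base x)
  let _ : Module K (M.presheaf.stalk x) :=
    Module.compHom _ (algebraMap K ((Spec (CommRingCat.of K)).presheaf.stalk (q.base x)))
  have : IsScalarTower K ((Spec (CommRingCat.of K)).presheaf.stalk (q.base x)) (M.presheaf.stalk x) :=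
    IsScalarTower.of_algebraMap_smul fun _ _ => rfl
  rw [Module.flat_iff_of_isLocalization (R := K) ((Spec (CommRingCat.of K)).presheaf.stalk (q.base x))
    (q.base x).asIdeal.primeCompl]
  infer_instance

theorem isPullback_congr {A B C D : Scheme.{u}} {a a' : A ⟶ B} {b : A ⟶ C} {c : B ⟶ D} {d d' : C ⟶ D}
    (h : IsPullback a b c d) (ha : a' = a) (hd : d' = d) : IsPullback a' b c d' := by
  subst ha hd
  exact h

variable (k : Type u) [Field k] (X : Scheme.{u}) [X.Over (Spec (CommRingCat.of k))]

section Slice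

variable {T : Scheme.{u}} (q : T ⟶ Spec (CommRingCat.of k)) (t : Spec (CommRingCat.of k) ⟶ T)
  (ht : t ≫ q = 𝟙 _)

theorem sliceAt_fst : Pic13.sliceAt k X q t ht ≫ pullback.fst _ _ = 𝟙 X := pullback.lift_fst _ _ _

theorem sliceAt_snd : Pic13.sliceAt k X q t ht ≫ pullback.snd _ _ =
    (X ↘ Spec (CommRingCat.of k)) ≫ t := pullback.lift_snd _ _ _

/-- The slice over `t` is the base change of `t`. -/
theorem isPullback_slice : IsPullback (Pic13.sliceAt k X q t ht) (X ↘ Spec (CommRingCat.of k))
    (pullback.snd (X ↘ Spec (CommRingCat.of k)) q) t := by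
  refine IsPullback.of_right (h₁₂ := pullback.fst (X ↘ Spec (CommRingCat.of k)) q)
    (h₂₂ := q) (v₁₃ := X ↘ Spec (CommRingCat.of k)) ?_ (sliceAt_snd k X q t ht)
    (IsPullback.of_hasPullback _ _)
  rw [sliceAt_fst, ht]
  exact IsPullback.of_horiz_isIso ⟨by simp⟩

/-- Restriction of a module pulled back from `X` to a slice. -/
noncomputable def sliceFst (F : X.Modules) :
    Pic13.fibreMod k X q t ht ((Scheme.Modules.pullback (pullback.fst (X ↘ Spec (CommRingCat.of k)) q)).obj F) ≅ F :=
  (Scheme.Modules.pullbackComp (Pic13.sliceAt k X q t ht) (pullback.fst _ _)).app F ≪≫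
    (Scheme.Modules.pullbackCongr (sliceAt_fst k X q t ht)).app F ≪≫ (Scheme.Modules.pullbackId X).app F

/-- The slice over a `k`-point is a base change of the fibre of `X ×_k T` at its image. -/
theorem exists_fibre_square (y : Spec (CommRingCat.of k)) :
    ∃ (g : X ⟶ (pullback.snd (X ↘ Spec (CommRingCat.of k)) q).fiber (t y))
      (s : Spec (CommRingCat.of k) ⟶ Spec (T.residueField (t y))),
      g ≫ (pullback.snd (X ↘ Spec (CommRingCat.of k)) q).fiberι (t y) = Pic13.sliceAt k X q t ht ∧
      IsPullback g (X ↘ Spec (CommRingCat.of k))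
        ((pullback.snd (X ↘ Spec (CommRingCat.of k)) q).fiberToSpecResidueField (t y)) s := by
  obtain rfl : y = IsLocalRing.closedPoint k := Subsingleton.elim _ _
  have hs := Scheme.descResidueField_stalkClosedPointTo_fromSpecResidueField k T t
  let s : Spec (CommRingCat.of k) ⟶ Spec (T.residueField (t (IsLocalRing.closedPoint k))) :=
    Spec.map (Scheme.descResidueField (Scheme.stalkClosedPointTo t))
  have hsq := (isPullback_slice k X q t ht)
  have hg : Pic13.sliceAt k X q t ht ≫ pullback.snd (X ↘ Spec (CommRingCat.of k)) q =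
      ((X ↘ Spec (CommRingCat.of k)) ≫ s) ≫ T.fromSpecResidueField (t (IsLocalRing.closedPoint k)) := by
    rw [Category.assoc, hs, sliceAt_snd]
  refine ⟨pullback.lift (Pic13.sliceAt k X q t ht) ((X ↘ Spec (CommRingCat.of k)) ≫ s) hg, s,
    pullback.lift_fst _ _ _, ?_⟩
  refine IsPullback.of_right (h₁₂ := (pullback.snd (X ↘ Spec (CommRingCat.of k)) q).fiberι
      (t (IsLocalRing.closedPoint k)))
    (h₂₂ := T.fromSpecResidueField (t (IsLocalRing.closedPoint k)))
    (v₁₃ := pullback.snd (X ↘ Spec (CommRingCat.of k)) q) ?_ (pullback.lift_snd _ _ _)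
    (IsPullback.of_hasPullback _ _)
  have h1 : pullback.lift (Pic13.sliceAt k X q t ht) ((X ↘ Spec (CommRingCat.of k)) ≫ s) hg ≫
    (pullback.snd (X ↘ Spec (CommRingCat.of k)) q).fiberι (t (IsLocalRing.closedPoint k)) =
      Pic13.sliceAt k X q t ht := pullback.lift_fst _ _ _
  exact isPullback_congr hsq h1 hs

end Slice

section Chi

variable [IsProper (X ↘ Spec (CommRingCat.of k))] (d : ℕ) (hd : topologicalKrullDim X ≤ d)
  {T : Scheme.{u}} (q : T ⟶ Spec (CommRingCat.of k)) (t : Spec (CommRingCat.of k) ⟶ T) (ht : t ≫ q = 𝟙 _)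

/-- The Betti numbers of the fibre at the image of a `k`-point are those of the slice. -/
theorem betti_eq (G : (Pic13.prodK k X q).Modules) (hG : Coh.IsQCoh G) (y : Spec (CommRingCat.of k))
    (n : ℕ) :
    PerfAux.betti (pullback.snd (X ↘ Spec (CommRingCat.of k)) q) G (t y) n =
      Module.finrank k (Coh.HH X (Pic13.fibreMod k X q t ht G) n) := by
  obtain ⟨g, s, hg, hsq⟩ := exists_fibre_square k X q t ht y
  obtain ⟨φ, rfl⟩ : ∃ φ, s = Spec.map φ := ⟨_, (Spec.map_preimage s).symm⟩
  let _ : Algebra (T.residueField (t y)) k := φ.hom.toAlgebra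
  let f := pullback.snd (X ↘ Spec (CommRingCat.of k)) q
  let _ : (f.fiber (t y)).Over (Spec (CommRingCat.of (T.residueField (t y)))) :=
    ⟨f.fiberToSpecResidueField (t y)⟩
  have hp : IsProper f := inferInstanceAs (IsProper (pullback.snd (X ↘ Spec (CommRingCat.of k)) q))
  have hpf : IsProper (f.fiberToSpecResidueField (t y)) :=
    inferInstanceAs (IsProper (pullback.snd f _))
  have hcomp : CompactSpace (f.fiber (t y)) :=
    (quasiCompact_iff_compactSpace (f := f.fiberToSpecResidueField (t y))).mp inferInstance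
  have hqs : QuasiSeparatedSpace (f.fiber (t y)) :=
    (quasiSeparated_iff_quasiSeparatedSpace (f := f.fiberToSpecResidueField (t y))).mp inferInstance
  have hF : Coh.IsQCoh ((Scheme.Modules.pullback (f.fiberι (t y))).obj G) :=
    FormalA.PullbackQC.isQCoh_pullback _ _ hG
  obtain ⟨e⟩ := Groth.Agent.S0034.result (T.residueField (t y)) k (f.fiber (t y)) X g hsq
    ((Scheme.Modules.pullback (f.fiberι (t y))).obj G) n
  have e2 := Fga.EulerIso.HHequiv k (((Scheme.Modules.pullbackComp g (f.fiberι (t y))).app G) ≪≫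
    (Scheme.Modules.pullbackCongr hg).app G) n
  have h1 := (e.trans e2).finrank_eq
  rw [Module.finrank_baseChange] at h1
  exact h1

include hd in
/-- The Euler characteristic of the fibre at the image of a `k`-point is that of the slice. -/
theorem euler_fibre (G : (Pic13.prodK k X q).Modules) (hG : Coh.IsQCoh G) (y : Spec (CommRingCat.of k)) :
    PerfAux.eulerChar (pullback.snd (X ↘ Spec (CommRingCat.of k)) q) G (t y) =
      FGA.eulerCharLE k X (Pic13.fibreMod k X q t ht G) d := by
  have hnoeth := Groth.Agent.Fga.SnapperTwist.isNoetherian_of_proper k X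
  unfold PerfAux.eulerChar FGA.eulerCharLE
  simp only [betti_eq k X q t ht G hG y]
  rw [finsum_eq_sum_of_support_subset (s := Finset.range (d + 1))]
  intro n hn
  by_contra hc
  have h2 : d < n := by
    have h5 : ¬ n < d + 1 := by simpa using hc
    omega
  have h3 := Groth.Agent.Fga.EulerLEAdd.subsingleton_HH X d hd (Pic13.fibreMod k X q t ht G) n h2
  apply hn
  have h4 : Module.finrank k (Coh.HH X (Pic13.fibreMod k X q t ht G) n) = 0 :=
    Module.finrank_zero_of_subsingleton
  simp only [h4, Nat.cast_zero, mul_zero]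

include hd in
/-- The Euler characteristic is constant in flat families over a connected base. -/
theorem chi_const [PreconnectedSpace T] [LocallyOfFiniteType q]
    (G : (Pic13.prodK k X q).Modules) (hG : Coh.IsCoh G)
    (hflat : FlatMod.IsFlatOver (pullback.snd (X ↘ Spec (CommRingCat.of k)) q) G)
    (t₀ : Spec (CommRingCat.of k) ⟶ T) (ht₀ : t₀ ≫ q = 𝟙 _) :
    FGA.eulerCharLE k X (Pic13.fibreMod k X q t ht G) d =
      FGA.eulerCharLE k X (Pic13.fibreMod k X q t₀ ht₀ G) d := by
  let f := pullback.snd (X ↘ Spec (CommRingCat.of k)) q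
  have hT : IsLocallyNoetherian T := LocallyOfFiniteType.isLocallyNoetherian q
  have hp : IsProper f := inferInstanceAs (IsProper (pullback.snd (X ↘ Spec (CommRingCat.of k)) q))
  have hlfp : LocallyOfFinitePresentation (X ↘ Spec (CommRingCat.of k)) := inferInstance
  have hfp : LocallyOfFinitePresentation f :=
    inferInstanceAs (LocallyOfFinitePresentation (pullback.snd (X ↘ Spec (CommRingCat.of k)) q))
  have hN : IsLocallyNoetherian (Pic13.prodK k X q) := LocallyOfFiniteType.isLocallyNoetherian f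
  have h := Groth.Agent.S1026.result f G ((Groth.Agent.S0018.result _ G).mp hG) hflat
  have y : Spec (CommRingCat.of k) := IsLocalRing.closedPoint k
  rw [← euler_fibre k X d hd q t ht G hG.1 y, ← euler_fibre k X d hd q t₀ ht₀ G hG.1 y]
  exact h.apply_eq_of_preconnectedSpace _ _

end Chi

section Twist

variable {T : Scheme.{u}} (q : T ⟶ Spec (CommRingCat.of k))

/-- The family `pr₁^* F ⊗ M^n`. -/
noncomputable def fam (F : X.Modules) (M : (Pic13.prodK k X q).Modules) (n : ℕ) :
    (Pic13.prodK k X q).Modules :=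
  CohB1.tensorMod ((Scheme.Modules.pullback (pullback.fst (X ↘ Spec (CommRingCat.of k)) q)).obj F)
    (CohB1.tensorPow M n)

theorem flat_pull (F : X.Modules) : FlatMod.IsFlatOver (pullback.snd (X ↘ Spec (CommRingCat.of k)) q)
    ((Scheme.Modules.pullback (pullback.fst (X ↘ Spec (CommRingCat.of k)) q)).obj F) := fun z =>
  Fdesc.FlatBC.isFlatOverAt_pullback (IsPullback.of_hasPullback _ _) F z (flat_over_field _ F _)

theorem isFlatOver_fam (F : X.Modules) {M : (Pic13.prodK k X q).Modules} (hM : PicF.IsInvertible M)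
    (n : ℕ) : FlatMod.IsFlatOver (pullback.snd (X ↘ Spec (CommRingCat.of k)) q) (fam k X q F M n) :=
  Ega3B.FlatTensInv.isFlatOver_tensor _ (Fdesc.LocGen.isInvertible_tensorPow hM n) (flat_pull k X q F)

theorem isCoh_fam {F : X.Modules} (hF : Coh.IsCoh F) {M : (Pic13.prodK k X q).Modules}
    (hM : PicF.IsInvertible M) (n : ℕ) : Coh.IsCoh (fam k X q F M n) :=
  Ega3B.CohTensor.isCoh_tensor (FormalA.PullbackQC.isCoh_pullback _ _ hF)
    (Fdesc.LocGen.isInvertible_tensorPow hM n)

/-- The fibres of `pr₁^* F ⊗ M^n` are `F ⊗ M_t^n`. -/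
theorem fam_fibre (F : X.Modules) {M : (Pic13.prodK k X q).Modules} (hM : PicF.IsInvertible M) (n : ℕ)
    (t : Spec (CommRingCat.of k) ⟶ T) (ht : t ≫ q = 𝟙 _) :
    Nonempty (Pic13.fibreMod k X q t ht (fam k X q F M n) ≅
      CohB1.tensorMod F (CohB1.tensorPow (Pic13.fibreMod k X q t ht M) n)) := by
  obtain ⟨e⟩ := CohqB.PullTwist471.nonempty_pull_twist (Pic13.sliceAt k X q t ht)
    ((Scheme.Modules.pullback (pullback.fst (X ↘ Spec (CommRingCat.of k)) q)).obj F) hM n
  exact ⟨e ≪≫ Ega2.Tens.mapTIso (sliceFst k X q t ht F) (Iso.refl _)⟩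

/-- `χ(F ⊗ M_t^n)` does not depend on the `k`-point `t` of a connected `T`. -/
theorem chi_twist_const [IsProper (X ↘ Spec (CommRingCat.of k))] (d : ℕ) (hd : topologicalKrullDim X ≤ d)
    [PreconnectedSpace T] [LocallyOfFiniteType q] {F : X.Modules} (hF : Coh.IsCoh F)
    {M : (Pic13.prodK k X q).Modules} (hM : PicF.IsInvertible M) (n : ℕ)
    (t : Spec (CommRingCat.of k) ⟶ T) (ht : t ≫ q = 𝟙 _)
    (t₀ : Spec (CommRingCat.of k) ⟶ T) (ht₀ : t₀ ≫ q = 𝟙 _) :
    FGA.eulerCharLE k X (CohB1.tensorMod F (CohB1.tensorPow (Pic13.fibreMod k X q t ht M) n)) d =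
      FGA.eulerCharLE k X (CohB1.tensorMod F (CohB1.tensorPow (Pic13.fibreMod k X q t₀ ht₀ M) n)) d := by
  obtain ⟨e⟩ := fam_fibre k X q F hM n t ht
  obtain ⟨e₀⟩ := fam_fibre k X q F hM n t₀ ht₀
  rw [← Fga.EulerIso.eulerCharLE_congr k e, ← Fga.EulerIso.eulerCharLE_congr k e₀]
  exact chi_const k X d hd q t ht _ (isCoh_fam k X q hF hM n) (isFlatOver_fam k X q F hM n) t₀ ht₀

end Twist

end Groth.Agent.Pic13.H942.ChiFam
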